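import Groth.Prelude.Def_DerCA
import Mathlib

/-!
# An inverse system of Artinian modules with given limit is essentially constant if the limit is Artinian
-/

set_option autoImplicit false
set_option linter.style.haveILetI false
universe u

open CategoryTheory Opposite

namespace Groth.Agent.H4EssConst

variable {A : Type u} [CommRing A] (X : ℕᵒᵖ ⥤ ModuleCat.{u} A)

/-- The transition map, on elements. -/
noncomputable abbrev t {n m : ℕ} (h : n ≤ m) : X.obj (op m) →ₗ[A] X.obj (op n) := (ARSys.tr X h).hom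

theorem tr_tr {a b c : ℕ} (h : a ≤ b) (h' : b ≤ c) (x : X.obj (op c)) : t X h (t X h' x) = t X (h.trans h') x := by
  show (ARSys.tr X h' ≫ ARSys.tr X h).hom x = _
  have : ARSys.tr X h' ≫ ARSys.tr X h = ARSys.tr X (h.trans h') := by
    show X.map _ ≫ X.map _ = X.map _
    rw [← X.map_comp]
    rfl
  rw [this]

theorem t_self {a : ℕ} (x : X.obj (op a)) : t X (le_refl a) x = x := by
  show (X.map (homOfLE (le_refl a)).op).hom x = x
  rw [show (homOfLE (le_refl a)).op = 𝟙 (op a) from rfl, X.map_id]
  rfl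

theorem exists_stable [∀ n, IsArtinian A (X.obj (op n))] (n : ℕ) :
    ∃ (k : ℕ) (hk : n ≤ k), ∀ (l : ℕ) (hl : k ≤ l),
      LinearMap.range (t X (hk.trans hl)) = LinearMap.range (t X hk) := by
  let f : ℕ →o (Submodule A (X.obj (op n)))ᵒᵈ :=
    ⟨fun j => OrderDual.toDual (LinearMap.range (t X (Nat.le_add_right n j))), fun i j hij => by
      show LinearMap.range (t X (Nat.le_add_right n j)) ≤ LinearMap.range (t X (Nat.le_add_right n i))
      rintro _ ⟨x, rfl⟩
      exact ⟨t X (Nat.add_le_add_left hij n) x, tr_tr X _ _ x⟩⟩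
  obtain ⟨j, hj⟩ := (monotone_stabilizes_iff_artinian.2 inferInstance) f
  refine ⟨n + j, Nat.le_add_right n j, fun l hl => ?_⟩
  obtain ⟨d, rfl⟩ := Nat.exists_eq_add_of_le (le_trans (Nat.le_add_right n j) hl)
  exact (congrArg OrderDual.ofDual (hj d (by omega))).symm

theorem isEssConstant [∀ n, IsArtinian A (X.obj (op n))] (M : ModuleCat.{u} A) [IsArtinian A M]
    (c : (Functor.const ℕᵒᵖ).obj M ⟶ X) (hinj : ∀ x : M, (∀ n : ℕ, (c.app (op n)).hom x = 0) → x = 0)
    (hsurj : ∀ y : (∀ n : ℕ, X.obj (op n)), (∀ (n m : ℕ) (h : n ≤ m), t X h (y m) = y n) →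
      ∃ x : M, ∀ n : ℕ, (c.app (op n)).hom x = y n) :
    DerCA.IsEssConstant X M c := by
  have hc : ∀ {n m : ℕ} (h : n ≤ m) (x : M), t X h ((c.app (op m)).hom x) = (c.app (op n)).hom x := fun {n m} h x => by
    have := c.naturality (homOfLE h).op
    simp only [Functor.const_obj_map, Category.id_comp] at this
    exact congr($(this.symm).hom x)
  let C : ∀ n, M →ₗ[A] X.obj (op n) := fun n => (c.app (op n)).hom
  obtain ⟨i₀, hi₀⟩ : ∃ i, Function.Injective (C i) := by
    let f : ℕ →o (Submodule A M)ᵒᵈ := ⟨fun j => OrderDual.toDual (LinearMap.ker (C j)), fun i j hij => by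
      show LinearMap.ker (C j) ≤ LinearMap.ker (C i)
      intro x hx
      rw [LinearMap.mem_ker] at hx ⊢
      show (c.app (op i)).hom x = 0
      rw [← hc hij x]
      exact (congrArg (t X hij) hx).trans (map_zero _)⟩
    obtain ⟨i, hi⟩ := (monotone_stabilizes_iff_artinian.2 inferInstance) f
    refine ⟨i, (injective_iff_map_eq_zero _).2 fun x hx => hinj x fun n => ?_⟩
    rcases le_total n i with h | h
    · rw [← hc h x]
      exact (congrArg (t X h) hx).trans (map_zero _)
    · have : x ∈ LinearMap.ker (C n) := by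
        have hh : LinearMap.ker (C i) = LinearMap.ker (C n) := congrArg OrderDual.ofDual (hi n h)
        rw [← hh]
        exact hx
      exact this
  choose k hk hstab using exists_stable X
  have hkmono : ∀ (n : ℕ) (x : X.obj (op (k n))), ∃ (y : X.obj (op (k (n + 1)))),
      t X (Nat.le_succ n |>.trans (hk (n + 1))) y = t X (hk n) x := fun n x => by
    have h1 : t X (hk n) x ∈ LinearMap.range (t X ((hk n).trans (le_max_left (k n) (k (n + 1))))) := by
      rw [hstab n _ (le_max_left _ _)]
      exact ⟨x, rfl⟩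
    obtain ⟨w, hw⟩ := h1
    exact ⟨t X (le_max_right _ _) w, (tr_tr X _ _ w).trans hw⟩
  have himage : ∀ (n : ℕ) (x : X.obj (op (k n))), ∃ a : M, C n a = t X (hk n) x := by
    intro n x
    choose g hg using hkmono
    let z : ∀ j, X.obj (op (k (n + j))) := fun j => Nat.rec x (fun j zz => g (n + j) zz) j
    let w : ∀ j, X.obj (op (n + j)) := fun j => t X (hk (n + j)) (z j)
    have hw : ∀ j, t X (Nat.le_succ (n + j)) (w (j + 1)) = w j := fun j =>
      (tr_tr X (Nat.le_succ (n + j)) (hk (n + j + 1)) _).trans (hg (n + j) (z j))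
    have hw' : ∀ (a b : ℕ) (h : a ≤ b), t X (Nat.add_le_add_left h n) (w b) = w a := by
      intro a b h
      induction b, h using Nat.le_induction with
      | base => exact t_self X _
      | succ b h ih =>
        rw [← tr_tr X (Nat.add_le_add_left h n) (Nat.le_succ (n + b)), hw, ih]
    obtain ⟨a, ha⟩ := hsurj (fun m => t X (Nat.le_add_left m n) (w m)) fun m m' h => by
      refine (tr_tr X h (Nat.le_add_left m' n) (w m')).trans ?_
      show _ = t X (Nat.le_add_left m n) (w m)
      rw [← hw' m m' h]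
      exact (tr_tr X (Nat.le_add_left m n) (Nat.add_le_add_left h n) (w m')).symm
    refine ⟨a, ?_⟩
    show (c.app (op n)).hom a = _
    rw [ha n]
    have h0 := hw' 0 n (Nat.zero_le n)
    exact h0
  let i := k i₀
  let S : X.obj (op i) →ₗ[A] M := (LinearEquiv.ofInjective (C i₀) hi₀).symm.toLinearMap ∘ₗ
    (t X (hk i₀)).codRestrict (LinearMap.range (C i₀)) (fun x => himage i₀ x)
  have hS : ∀ (x : X.obj (op i)) (a : M), C i₀ a = t X (hk i₀) x → S x = a := fun x a ha => by
    show (LinearEquiv.ofInjective (C i₀) hi₀).symm _ = a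
    rw [LinearEquiv.symm_apply_eq]
    exact Subtype.ext ha.symm
  refine ⟨i, ModuleCat.ofHom S, ModuleCat.hom_ext (LinearMap.ext fun a => hS _ a (hc (hk i₀) a).symm), fun j => ?_⟩
  let l := max i j
  refine ⟨k l, (le_max_left i j).trans (hk l), (le_max_right i j).trans (hk l), ModuleCat.hom_ext (LinearMap.ext fun x => ?_)⟩
  obtain ⟨a, ha⟩ := himage l x
  show t X _ x = C j (S (t X _ x))
  rw [← tr_tr X (le_max_right i j) (hk l), ← tr_tr X (le_max_left i j) (hk l), ← ha,
    show t X (le_max_left i j) (C l a) = C i a from hc _ a, hS _ a (hc (hk i₀) a).symm]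
  exact hc _ a

end Groth.Agent.H4EssConst
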